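import Groth.Agent.EGA73.Tensor
import Groth.Agent.EGA73.Invertible
import Groth.Agent.Props58.PullTensor
import Groth.Agent.Amp73.PullTensor
import Groth.Prelude.Def_ThetaK

/-!
The Mumford bundle along points and the kernel `K(L)`.
-/

set_option autoImplicit false
set_option linter.style.haveILetI false

noncomputable section

universe u

open CategoryTheory CategoryTheory.Limits MonoidalCategory CartesianMonoidalCategory MonObj AlgebraicGeometry

namespace Groth.Agent.Theta99

variable {k : Type u} [Field k]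

/-- Invertible modules on the spectrum of a field are trivial. -/
theorem trivial_of_field {M : (Spec (CommRingCat.of k)).Modules} (hM : PicF.IsInvertible M) :
    Nonempty (M ≅ Coh.structureModule (Spec (CommRingCat.of k))) := by
  haveI : Subsingleton ↥(Spec (CommRingCat.of k)) := inferInstanceAs (Subsingleton (PrimeSpectrum k))
  obtain ⟨U, hU, ⟨e⟩⟩ := hM (IsLocalRing.closedPoint k)
  obtain rfl : U = ⊤ := top_le_iff.mp fun x _ => by
    rwa [Subsingleton.elim (α := ↥(Spec (CommRingCat.of k))) x (IsLocalRing.closedPoint k)]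
  let T := (Spec (CommRingCat.of k))
  have h : T.topIso.inv ≫ (⊤ : T.Opens).ι = 𝟙 T := by
    rw [← Scheme.topIso_hom]; exact T.topIso.inv_hom_id
  exact ⟨((Scheme.Modules.pullbackId T).app M).symm ≪≫
    ((Scheme.Modules.pullbackCongr h).symm.app M) ≪≫
    ((Scheme.Modules.pullbackComp T.topIso.inv (⊤ : T.Opens).ι).symm.app M) ≪≫
    (Scheme.Modules.pullback T.topIso.inv).mapIso
      (((Scheme.Modules.restrictFunctorIsoPullback (⊤ : T.Opens).ι).app M).symm ≪≫ e) ≪≫
    PicLoc.pullbackStructureIso T.topIso.inv⟩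

variable {X : Over (Spec (CommRingCat.of k))} {T : Over (Spec (CommRingCat.of k))}

/-- Pullback along a composite in the over category. -/
def pullCompIso {A B C : Over (Spec (CommRingCat.of k))} (f : A ⟶ B) (g : B ⟶ C) (L : C.left.Modules) :
    (Scheme.Modules.pullback f.left).obj ((Scheme.Modules.pullback g.left).obj L) ≅
      (Scheme.Modules.pullback (f ≫ g).left).obj L :=
  (Scheme.Modules.pullbackComp f.left g.left).app L ≪≫ (Scheme.Modules.pullbackCongr (by rw [Over.comp_left])).app L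

variable [GrpObj X] {L : X.left.Modules}

theorem pull_one_trivial (hL : PicF.IsInvertible L) :
    Nonempty ((Scheme.Modules.pullback (1 : T ⟶ X).left).obj L ≅ Coh.structureModule T.left) := by
  obtain ⟨t⟩ := trivial_of_field (Amp73.isInvertible_pullback (f := η[X].left) hL)
  exact ⟨(Scheme.Modules.pullbackCongr (congrArg CommaMorphism.left (Hom.one_def : (1 : T ⟶ X) = _))).app L ≪≫
    (pullCompIso (toUnit T) η[X] L).symm ≪≫ (Scheme.Modules.pullback _).mapIso t ≪≫
      PicLoc.pullbackStructureIso _⟩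

theorem transl_fst_eq (x : T ⟶ X) : ThetaGrp.transl X x ≫ fst X T = (X ◁ x) ≫ μ[X] := by
  have h : (μ[X] : X ⊗ X ⟶ X) = fst X X * snd X X := by
    rw [Hom.mul_def, lift_fst_snd, Category.id_comp]
  rw [ThetaGrp.transl_fst, h, MonObj.comp_mul, whiskerLeft_fst, whiskerLeft_snd]

theorem eq_pullback (hL : PicF.IsInvertible L) (x : T ⟶ X) {M : T.left.Modules} (hM : PicF.IsInvertible M)
    (h : Nonempty (CohB1.tensorMod ((Scheme.Modules.pullback (fst X T).left).obj L)
          ((Scheme.Modules.pullback (snd X T).left).obj M) ≅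
        (Scheme.Modules.pullback (ThetaGrp.transl X x ≫ fst X T).left).obj L)) :
    Nonempty (M ≅ (Scheme.Modules.pullback x.left).obj L) := by
  obtain ⟨e⟩ := h
  let s : T ⟶ X ⊗ T := lift 1 (𝟙 T)
  obtain ⟨t⟩ := pull_one_trivial (T := T) hL
  obtain ⟨p⟩ := Props58.PullTensor.nonempty_pullTensIso (f := s.left)
    (Amp73.isInvertible_pullback (f := (fst X T).left) hL) (Amp73.isInvertible_pullback (f := (snd X T).left) hM)
  have h1 : s ≫ fst X T = 1 := lift_fst _ _
  have h2 : s ≫ snd X T = 𝟙 T := lift_snd _ _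
  have h3 : s ≫ ThetaGrp.transl X x ≫ fst X T = x := by
    rw [ThetaGrp.transl_fst, MonObj.comp_mul, h1, reassoc_of% h2, _root_.one_mul]
  let a : (Scheme.Modules.pullback s.left).obj ((Scheme.Modules.pullback (fst X T).left).obj L) ≅
      Coh.structureModule T.left :=
    pullCompIso s (fst X T) L ≪≫ (Scheme.Modules.pullbackCongr (congrArg CommaMorphism.left h1)).app L ≪≫ t
  let b : (Scheme.Modules.pullback s.left).obj ((Scheme.Modules.pullback (snd X T).left).obj M) ≅ M :=
    pullCompIso s (snd X T) M ≪≫ (Scheme.Modules.pullbackCongr (congrArg CommaMorphism.left h2)).app M ≪≫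
      (Scheme.Modules.pullbackId T.left).app M
  exact ⟨(EGA73.tensIso a b ≪≫ EGA73.tensUnitLeft M).symm ≪≫ p.symm ≪≫ (Scheme.Modules.pullback s.left).mapIso e ≪≫
    pullCompIso s (ThetaGrp.transl X x ≫ fst X T) L ≪≫
      (Scheme.Modules.pullbackCongr (congrArg CommaMorphism.left h3)).app L⟩

/-- The condition of the Mumford bundle with trivial twist. -/
theorem tfae_translate (hL : PicF.IsInvertible L) (x : T ⟶ X) :
    (ThetaGrp.IsMumfordTriv X L x → AgPol.IsLambdaSheaf ((X ◁ x) ≫ μ[X]).left (fst X T).left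
        (snd X T ≫ x).left L (Coh.structureModule (X ⊗ T).left)) ∧
    ((∃ M : T.left.Modules, PicF.IsInvertible M ∧
      Nonempty (CohB1.tensorMod ((Scheme.Modules.pullback (fst X T).left).obj L)
          ((Scheme.Modules.pullback (snd X T).left).obj M) ≅
        (Scheme.Modules.pullback (ThetaGrp.transl X x ≫ fst X T).left).obj L)) ↔
      AgPol.IsLambdaSheaf ((X ◁ x) ≫ μ[X]).left (fst X T).left (snd X T ≫ x).left L
        (Coh.structureModule (X ⊗ T).left)) := by
  have hxL : PicF.IsInvertible ((Scheme.Modules.pullback x.left).obj L) := Amp73.isInvertible_pullback x.left hL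
  have hm : (ThetaGrp.transl X x ≫ fst X T).left = ((X ◁ x) ≫ μ[X]).left := by rw [transl_fst_eq]
  have toL : ∀ M : T.left.Modules, PicF.IsInvertible M →
      Nonempty (CohB1.tensorMod ((Scheme.Modules.pullback (fst X T).left).obj L)
          ((Scheme.Modules.pullback (snd X T).left).obj M) ≅
        (Scheme.Modules.pullback (ThetaGrp.transl X x ≫ fst X T).left).obj L) →
      AgPol.IsLambdaSheaf ((X ◁ x) ≫ μ[X]).left (fst X T).left (snd X T ≫ x).left L
        (Coh.structureModule (X ⊗ T).left) := by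
    intro M hM h
    obtain ⟨i⟩ := eq_pullback hL x hM h
    obtain ⟨e⟩ := h
    exact ⟨EGA73.tensIso (EGA73.tensUnitLeft _)
        ((pullCompIso (snd X T) x L).symm ≪≫ (Scheme.Modules.pullback _).mapIso i.symm) ≪≫ e ≪≫
      (Scheme.Modules.pullbackCongr hm).app L⟩
  refine ⟨?_, ⟨fun ⟨M, hM, h⟩ => toL M hM h, ?_⟩⟩
  · rintro ⟨M, hM, ⟨e⟩⟩
    obtain ⟨p⟩ := Props58.PullTensor.nonempty_pullTensIso (f := (snd X T).left) hM hxL
    refine toL _ (EGA73.isInvertible_tensorMod hM hxL) ⟨?_⟩
    exact EGA73.tensIso (Iso.refl _) (p ≪≫ EGA73.tensIso (Iso.refl _) (pullCompIso (snd X T) x L)) ≪≫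
      (EGA73.tensAssoc' _ _ _).symm ≪≫ EGA73.tensIso (EGA73.tensComm _ _) (Iso.refl _) ≪≫ e ≪≫
      (Scheme.Modules.pullbackCongr hm).symm.app L
  · rintro ⟨e⟩
    exact ⟨_, hxL, ⟨EGA73.tensIso (EGA73.tensUnitLeft _).symm (pullCompIso (snd X T) x L) ≪≫ e ≪≫
      (Scheme.Modules.pullbackCongr hm).symm.app L⟩⟩

theorem isMumfordTriv_of_lambda (x : T ⟶ X)
    (h : AgPol.IsLambdaSheaf ((X ◁ x) ≫ μ[X]).left (fst X T).left (snd X T ≫ x).left L
      (Coh.structureModule (X ⊗ T).left)) : ThetaGrp.IsMumfordTriv X L x := by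
  obtain ⟨e⟩ := h
  exact ⟨Coh.structureModule T.left, EGA73.isInvertible_structureModule,
    ⟨EGA73.tensIso (EGA73.tensIso (PicLoc.pullbackStructureIso _) (Iso.refl _)) (Iso.refl _) ≪≫ e⟩⟩

theorem factors_iff (hL : PicF.IsInvertible L) {K : Over (Spec (CommRingCat.of k))} {i : K ⟶ X}
    (hK : ThetaGrp.IsKL X L i) (x : T ⟶ X) :
    (∃ y : T ⟶ K, y ≫ i = x) ↔ ∃ M : T.left.Modules, PicF.IsInvertible M ∧
      Nonempty (CohB1.tensorMod ((Scheme.Modules.pullback (fst X T).left).obj L)
          ((Scheme.Modules.pullback (snd X T).left).obj M) ≅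
        (Scheme.Modules.pullback (ThetaGrp.transl X x ≫ fst X T).left).obj L) := by
  rw [← hK.univ, (tfae_translate hL x).2]
  exact ⟨(tfae_translate hL x).1, isMumfordTriv_of_lambda x⟩

theorem lambda_restrict (hL : PicF.IsInvertible L) {K : Over (Spec (CommRingCat.of k))} {i : K ⟶ X}
    (hK : ThetaGrp.IsKL X L i) :
    AgPol.IsLambdaSheaf ((X ◁ i) ≫ μ[X]).left (fst X K).left (snd X K ≫ i).left L
      (Coh.structureModule (X ⊗ K).left) :=
  (tfae_translate hL i).1 ((hK.univ K i).mpr ⟨𝟙 K, Category.id_comp i⟩)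

theorem inv_trivial (hL : PicF.IsInvertible L) {B : Over (Spec (CommRingCat.of k))} [GrpObj B]
    (j : B ⟶ X) [IsMonHom j] (hj : ThetaGrp.IsMumfordTriv X L j) :
    Nonempty (CohB1.tensorMod ((Scheme.Modules.pullback j.left).obj L)
        ((Scheme.Modules.pullback ((𝟙 B)⁻¹ ≫ j).left).obj L) ≅ Coh.structureModule B.left) := by
  obtain ⟨e⟩ := (tfae_translate hL j).1 hj
  let s : B ⟶ X ⊗ B := lift ((𝟙 B)⁻¹ ≫ j) (𝟙 B)
  obtain ⟨t⟩ := pull_one_trivial (T := B) hL
  have hh : ((𝟙 B)⁻¹ ≫ j) * j = 1 := by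
    have := (IsMonHom.monoidHom j B).map_mul (𝟙 B)⁻¹ (𝟙 B)
    rw [inv_mul_cancel, map_one] at this
    simpa [IsMonHom.monoidHom] using this.symm
  have h1 : s ≫ fst X B = (𝟙 B)⁻¹ ≫ j := lift_fst _ _
  have h2 : s ≫ snd X B ≫ j = j := by simp [s]
  have h3 : s ≫ (X ◁ j) ≫ μ[X] = 1 := by
    rw [lift_whiskerLeft_assoc, Category.id_comp, ← Hom.mul_def, hh]
  obtain ⟨p⟩ := Props58.PullTensor.nonempty_pullTensIso (f := s.left)
    (EGA73.isInvertible_tensorMod EGA73.isInvertible_structureModule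
      (Amp73.isInvertible_pullback (f := (fst X B).left) hL))
    (Amp73.isInvertible_pullback (f := (snd X B ≫ j).left) hL)
  let a : (Scheme.Modules.pullback s.left).obj (CohB1.tensorMod (Coh.structureModule (X ⊗ B).left)
      ((Scheme.Modules.pullback (fst X B).left).obj L)) ≅ (Scheme.Modules.pullback ((𝟙 B)⁻¹ ≫ j).left).obj L :=
    (Scheme.Modules.pullback s.left).mapIso (EGA73.tensUnitLeft _) ≪≫
      pullCompIso s (fst X B) L ≪≫ (Scheme.Modules.pullbackCongr (congrArg CommaMorphism.left h1)).app L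
  let b : (Scheme.Modules.pullback s.left).obj ((Scheme.Modules.pullback (snd X B ≫ j).left).obj L) ≅
      (Scheme.Modules.pullback j.left).obj L :=
    pullCompIso s (snd X B ≫ j) L ≪≫ (Scheme.Modules.pullbackCongr (congrArg CommaMorphism.left h2)).app L
  exact ⟨EGA73.tensComm _ _ ≪≫ (EGA73.tensIso a b).symm ≪≫ p.symm ≪≫ (Scheme.Modules.pullback s.left).mapIso e ≪≫
    pullCompIso s ((X ◁ j) ≫ μ[X]) L ≪≫ (Scheme.Modules.pullbackCongr (congrArg CommaMorphism.left h3)).app L ≪≫ t⟩

end Groth.Agent.Theta99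

namespace Groth.Agent.Theta99

variable {k : Type u} [Field k] {X T : Over (Spec (CommRingCat.of k))} [GrpObj X] {L : X.left.Modules}

/-- The twisting module is the inverse image along the point, with no invertibility hypothesis. -/
theorem eq_pullback_general (hL : PicF.IsInvertible L) (x : T ⟶ X) (M : T.left.Modules)
    (h : Nonempty (CohB1.tensorMod ((Scheme.Modules.pullback (fst X T).left).obj L)
          ((Scheme.Modules.pullback (snd X T).left).obj M) ≅
        (Scheme.Modules.pullback (ThetaGrp.transl X x ≫ fst X T).left).obj L)) :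
    Nonempty (M ≅ (Scheme.Modules.pullback x.left).obj L) := by
  obtain ⟨e⟩ := h
  let s : T ⟶ X ⊗ T := lift 1 (𝟙 T)
  obtain ⟨U, hU, ⟨u⟩⟩ := hL (η[X].left (IsLocalRing.closedPoint k))
  let p := (fst X T).left
  have h1 : s ≫ fst X T = 1 := lift_fst _ _
  have h2 : s ≫ snd X T = 𝟙 T := lift_snd _ _
  have h3 : s ≫ ThetaGrp.transl X x ≫ fst X T = x := by
    rw [ThetaGrp.transl_fst, MonObj.comp_mul, h1, reassoc_of% h2, _root_.one_mul]
  let W := p ⁻¹ᵁ U
  have hr : Set.range s.left ⊆ Set.range W.ι := by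
    rw [Scheme.Opens.range_ι]
    rintro - ⟨y, rfl⟩
    haveI : Subsingleton ↥(Spec (CommRingCat.of k)) := inferInstanceAs (Subsingleton (PrimeSpectrum k))
    show p (s.left y) ∈ U
    rw [← Scheme.Hom.comp_apply, ← Over.comp_left, h1, Hom.one_def, Over.comp_left, Scheme.Hom.comp_apply,
      Subsingleton.elim (α := ↥(Spec (CommRingCat.of k))) ((toUnit T).left y) (IsLocalRing.closedPoint k)]
    exact hU
  let sW : T.left ⟶ W.toScheme := IsOpenImmersion.lift W.ι s.left hr
  have hsW : sW ≫ W.ι = s.left := IsOpenImmersion.lift_fac _ _ _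
  let a : ((Scheme.Modules.pullback p).obj L).restrict W.ι ≅ Coh.structureModule W.toScheme :=
    ((Amp73.pullRestrictIso p U).app L).symm ≪≫
      (Scheme.Modules.pullback (p ∣_ U)).mapIso (((Scheme.Modules.restrictFunctorIsoPullback U.ι).app L).symm ≪≫ u) ≪≫
        PicLoc.pullbackStructureIso (p ∣_ U)
  let N := (Scheme.Modules.pullback (snd X T).left).obj M
  let R := (Scheme.Modules.pullback (ThetaGrp.transl X x ≫ fst X T).left).obj L
  let d : N.restrict W.ι ≅ R.restrict W.ι :=
    (EGA73.tensUnitLeft _).symm ≪≫ EGA73.tensIso a.symm (Iso.refl _) ≪≫ EGA73.tensorRestrictIso W.ι _ _ ≪≫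
      (Scheme.Modules.restrictFunctor W.ι).mapIso e
  let back : ∀ F : (X ⊗ T).left.Modules,
      (Scheme.Modules.pullback sW).obj (F.restrict W.ι) ≅ (Scheme.Modules.pullback s.left).obj F := fun F =>
    (Scheme.Modules.pullback sW).mapIso ((Scheme.Modules.restrictFunctorIsoPullback W.ι).app F) ≪≫
      (Scheme.Modules.pullbackComp sW W.ι).app F ≪≫ (Scheme.Modules.pullbackCongr hsW).app F
  exact ⟨((Scheme.Modules.pullbackId T.left).app M).symm ≪≫
    (Scheme.Modules.pullbackCongr (congrArg CommaMorphism.left h2)).symm.app M ≪≫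
    (pullCompIso s (snd X T) M).symm ≪≫ (back N).symm ≪≫ (Scheme.Modules.pullback sW).mapIso d ≪≫ back R ≪≫
    pullCompIso s (ThetaGrp.transl X x ≫ fst X T) L ≪≫
      (Scheme.Modules.pullbackCongr (congrArg CommaMorphism.left h3)).app L⟩

end Groth.Agent.Theta99
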