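import Groth.Agent.Theta99.KL
import Groth.Prelude.Def_ThetaGrp

/-!
The points of `K(L)` form a subgroup.
-/

set_option autoImplicit false
set_option linter.style.haveILetI false

noncomputable section

universe u

open CategoryTheory CategoryTheory.Limits MonoidalCategory CartesianMonoidalCategory MonObj AlgebraicGeometry

namespace Groth.Agent.Theta99

variable {k : Type u} [Field k] {X T : Over (Spec (CommRingCat.of k))} [GrpObj X] {L : X.left.Modules}

/-- The translate of `L` is `L` up to a twist from the base. -/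
def IsTw (L : X.left.Modules) (x : T ⟶ X) (M : T.left.Modules) : Prop :=
  Nonempty (CohB1.tensorMod ((Scheme.Modules.pullback (fst X T).left).obj L)
      ((Scheme.Modules.pullback (snd X T).left).obj M) ≅
    (Scheme.Modules.pullback (ThetaGrp.transl X x ≫ fst X T).left).obj L)

theorem transl_snd' (x : T ⟶ X) : ThetaGrp.transl X x ≫ snd X T = snd X T := by
  rw [ThetaGrp.transl, lift_snd]

theorem isTw_mul (hL : PicF.IsInvertible L) (x y : T ⟶ X) {M N : T.left.Modules} (hN : PicF.IsInvertible N)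
    (h₁ : IsTw L x M) (h₂ : IsTw L y N) : IsTw L (x * y) (CohB1.tensorMod M N) ∨ ¬ PicF.IsInvertible M := by
  by_cases hM : PicF.IsInvertible M
  swap
  · exact Or.inr hM
  left
  obtain ⟨e₁⟩ := h₁
  obtain ⟨e₂⟩ := h₂
  let t := ThetaGrp.transl X x
  obtain ⟨p⟩ := Props58.PullTensor.nonempty_pullTensIso (f := t.left)
    (Amp73.isInvertible_pullback (f := (fst X T).left) hL) (Amp73.isInvertible_pullback (f := (snd X T).left) hN)
  obtain ⟨q⟩ := Props58.PullTensor.nonempty_pullTensIso (f := (snd X T).left) hM hN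
  let b : (Scheme.Modules.pullback t.left).obj ((Scheme.Modules.pullback (snd X T).left).obj N) ≅
      (Scheme.Modules.pullback (snd X T).left).obj N :=
    pullCompIso t (snd X T) N ≪≫ (Scheme.Modules.pullbackCongr (congrArg CommaMorphism.left (transl_snd' x))).app N
  have hh : t ≫ ThetaGrp.transl X y ≫ fst X T = ThetaGrp.transl X (x * y) ≫ fst X T := by
    rw [← Category.assoc, ThetaGrp.transl_mul]
  refine ⟨EGA73.tensIso (Iso.refl _) q ≪≫ (EGA73.tensAssoc' _ _ _).symm ≪≫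
    (EGA73.tensIso (pullCompIso t (fst X T) L ≪≫ e₁.symm) b).symm ≪≫ p.symm ≪≫
      (Scheme.Modules.pullback t.left).mapIso e₂ ≪≫ pullCompIso t (ThetaGrp.transl X y ≫ fst X T) L ≪≫
      (Scheme.Modules.pullbackCongr (congrArg CommaMorphism.left hh)).app L⟩

theorem isTw_one : IsTw L (1 : T ⟶ X) (Coh.structureModule T.left) := by
  have hh : ThetaGrp.transl X (1 : T ⟶ X) ≫ fst X T = fst X T := by rw [ThetaGrp.transl_one, Category.id_comp]
  exact ⟨EGA73.tensIso (Iso.refl _) (PicLoc.pullbackStructureIso _) ≪≫ EGA73.tensComm _ _ ≪≫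
    EGA73.tensUnitLeft _ ≪≫ (Scheme.Modules.pullbackCongr (congrArg CommaMorphism.left hh)).symm.app L⟩

theorem isTw_inv (hL : PicF.IsInvertible L) (x : T ⟶ X) {M : T.left.Modules} (hM : PicF.IsInvertible M)
    (h : IsTw L x M) : IsTw L x⁻¹ ((Scheme.Modules.pullback (x⁻¹ : T ⟶ X).left).obj L) := by
  obtain ⟨e⟩ := h
  have hM' : PicF.IsInvertible ((Scheme.Modules.pullback (x⁻¹ : T ⟶ X).left).obj L) := Amp73.isInvertible_pullback _ hL
  -- the twist inverse to `M`
  let s : T ⟶ X ⊗ T := lift x⁻¹ (𝟙 T)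
  obtain ⟨t⟩ := pull_one_trivial (T := T) hL
  have h1 : s ≫ fst X T = x⁻¹ := lift_fst _ _
  have h2 : s ≫ snd X T = 𝟙 T := lift_snd _ _
  have h3 : s ≫ ThetaGrp.transl X x ≫ fst X T = 1 := by
    rw [ThetaGrp.transl_fst, MonObj.comp_mul, h1, reassoc_of% h2, inv_mul_cancel]
  obtain ⟨p⟩ := Props58.PullTensor.nonempty_pullTensIso (f := s.left)
    (Amp73.isInvertible_pullback (f := (fst X T).left) hL) (Amp73.isInvertible_pullback (f := (snd X T).left) hM)
  let a := pullCompIso s (fst X T) L ≪≫ (Scheme.Modules.pullbackCongr (congrArg CommaMorphism.left h1)).app L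
  let b : (Scheme.Modules.pullback s.left).obj ((Scheme.Modules.pullback (snd X T).left).obj M) ≅ M :=
    pullCompIso s (snd X T) M ≪≫ (Scheme.Modules.pullbackCongr (congrArg CommaMorphism.left h2)).app M ≪≫
      (Scheme.Modules.pullbackId T.left).app M
  let z : CohB1.tensorMod M ((Scheme.Modules.pullback (x⁻¹ : T ⟶ X).left).obj L) ≅ Coh.structureModule T.left :=
    EGA73.tensComm _ _ ≪≫ (EGA73.tensIso a b).symm ≪≫ p.symm ≪≫ (Scheme.Modules.pullback s.left).mapIso e ≪≫
      pullCompIso s (ThetaGrp.transl X x ≫ fst X T) L ≪≫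
      (Scheme.Modules.pullbackCongr (congrArg CommaMorphism.left h3)).app L ≪≫ t
  let M' := (Scheme.Modules.pullback (x⁻¹ : T ⟶ X).left).obj L
  let r := ThetaGrp.transl X (x⁻¹ : T ⟶ X)
  have hh : r ≫ ThetaGrp.transl X x ≫ fst X T = fst X T := by
    rw [← Category.assoc, ← ThetaGrp.transl_mul, inv_mul_cancel, ThetaGrp.transl_one, Category.id_comp]
  obtain ⟨p'⟩ := Props58.PullTensor.nonempty_pullTensIso (f := r.left)
    (Amp73.isInvertible_pullback (f := (fst X T).left) hL) (Amp73.isInvertible_pullback (f := (snd X T).left) hM)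
  obtain ⟨q⟩ := Props58.PullTensor.nonempty_pullTensIso (f := (snd X T).left) hM hM'
  let b' : (Scheme.Modules.pullback r.left).obj ((Scheme.Modules.pullback (snd X T).left).obj M) ≅
      (Scheme.Modules.pullback (snd X T).left).obj M :=
    pullCompIso r (snd X T) M ≪≫ (Scheme.Modules.pullbackCongr (congrArg CommaMorphism.left (transl_snd' _))).app M
  let c : (Scheme.Modules.pullback (fst X T).left).obj L ≅
      CohB1.tensorMod ((Scheme.Modules.pullback (r ≫ fst X T).left).obj L) ((Scheme.Modules.pullback (snd X T).left).obj M) :=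
    ((Scheme.Modules.pullbackCongr (congrArg CommaMorphism.left hh)).app L).symm ≪≫
      (pullCompIso r (ThetaGrp.transl X x ≫ fst X T) L).symm ≪≫ ((Scheme.Modules.pullback r.left).mapIso e).symm ≪≫
      p' ≪≫ EGA73.tensIso (pullCompIso r (fst X T) L) b'
  exact ⟨EGA73.tensIso c (Iso.refl _) ≪≫ EGA73.tensAssoc' _ _ _ ≪≫
    EGA73.tensIso (Iso.refl _) (q.symm ≪≫ (Scheme.Modules.pullback (snd X T).left).mapIso z ≪≫
      PicLoc.pullbackStructureIso _) ≪≫ EGA73.tensComm _ _ ≪≫ EGA73.tensUnitLeft _⟩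

theorem KL_points_mul_one_inv (hL : PicF.IsInvertible L) {K : Over (Spec (CommRingCat.of k))} {i : K ⟶ X}
    (hK : ThetaGrp.IsKL X L i) :
    (∀ y₁ y₂ : T ⟶ K, ∃ y : T ⟶ K, y ≫ i = (y₁ ≫ i) * (y₂ ≫ i)) ∧
      (∃ y : T ⟶ K, y ≫ i = 1) ∧
      (∀ y₁ : T ⟶ K, ∃ y : T ⟶ K, y ≫ i = (y₁ ≫ i)⁻¹) := by
  refine ⟨fun y₁ y₂ => ?_, ?_, fun y₁ => ?_⟩
  · obtain ⟨M, hM, h₁⟩ := (factors_iff hL hK _).mp ⟨y₁, rfl⟩
    obtain ⟨N, hN, h₂⟩ := (factors_iff hL hK _).mp ⟨y₂, rfl⟩
    exact (factors_iff hL hK _).mpr ⟨_, EGA73.isInvertible_tensorMod hM hN,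
      (isTw_mul hL _ _ hN h₁ h₂).resolve_right (not_not_intro hM)⟩
  · exact (factors_iff hL hK _).mpr ⟨_, EGA73.isInvertible_structureModule, isTw_one⟩
  · obtain ⟨M, hM, h₁⟩ := (factors_iff hL hK _).mp ⟨y₁, rfl⟩
    exact (factors_iff hL hK _).mpr ⟨_, Amp73.isInvertible_pullback _ hL, isTw_inv hL _ hM h₁⟩

end Groth.Agent.Theta99
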