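import Groth.Agent.Theta99.Pts

/-!
`K(L)` is the locus of locally liftable translations.
-/

set_option autoImplicit false
set_option linter.style.haveILetI false

noncomputable section

universe u

open CategoryTheory CategoryTheory.Limits MonoidalCategory CartesianMonoidalCategory MonObj AlgebraicGeometry

namespace Groth.Agent.Theta99

variable {k : Type u} [Field k] {A T T' : Over (Spec (CommRingCat.of k))} [GrpObj A] {L : A.left.Modules}

theorem isTw_comp (hL : PicF.IsInvertible L) (f : T' ⟶ T) {x : T ⟶ A} {M : T.left.Modules}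
    (hM : PicF.IsInvertible M) (h : IsTw L x M) : IsTw L (f ≫ x) ((Scheme.Modules.pullback f.left).obj M) := by
  obtain ⟨e⟩ := h
  let g := A ◁ f
  obtain ⟨p⟩ := Props58.PullTensor.nonempty_pullTensIso (f := g.left)
    (Amp73.isInvertible_pullback (f := (fst A T).left) hL) (Amp73.isInvertible_pullback (f := (snd A T).left) hM)
  have h1 : g ≫ fst A T = fst A T' := whiskerLeft_fst _ _
  have h2 : g ≫ snd A T = snd A T' ≫ f := whiskerLeft_snd _ _
  have h3 : g ≫ ThetaGrp.transl A x ≫ fst A T = ThetaGrp.transl A (f ≫ x) ≫ fst A T' := by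
    rw [ThetaGrp.transl_fst, MonObj.comp_mul, h1, reassoc_of% h2, ThetaGrp.transl_fst]
  let a := pullCompIso g (fst A T) L ≪≫ (Scheme.Modules.pullbackCongr (congrArg CommaMorphism.left h1)).app L
  let b := pullCompIso g (snd A T) M ≪≫ (Scheme.Modules.pullbackCongr (congrArg CommaMorphism.left h2)).app M ≪≫
    (pullCompIso (snd A T') f M).symm
  exact ⟨(EGA73.tensIso a b).symm ≪≫ p.symm ≪≫ (Scheme.Modules.pullback g.left).mapIso e ≪≫
    pullCompIso g (ThetaGrp.transl A x ≫ fst A T) L ≪≫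
      (Scheme.Modules.pullbackCongr (congrArg CommaMorphism.left h3)).app L⟩

theorem isTw_of_iso {x : T ⟶ A} {M N : T.left.Modules} (e : M ≅ N) (h : IsTw L x M) : IsTw L x N := by
  obtain ⟨i⟩ := h
  exact ⟨EGA73.tensIso (Iso.refl _) ((Scheme.Modules.pullback (snd A T).left).mapIso e.symm) ≪≫ i⟩

/-- An open of the test scheme, over the base. -/
abbrev openOver (U : T.left.Opens) : Over (Spec (CommRingCat.of k)) := Over.mk (U.ι ≫ T.hom)

/-- Its inclusion. -/
abbrev openIncl (U : T.left.Opens) : openOver U ⟶ T := Over.homMk U.ι rfl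

theorem factors_of_locally {K : Over (Spec (CommRingCat.of k))} {i : K ⟶ A} (hi : IsClosedImmersion i.left) (x : T ⟶ A)
    (h : ∀ t : ↥T.left, ∃ U : T.left.Opens, t ∈ U ∧ ∃ y : openOver U ⟶ K, y ≫ i = openIncl U ≫ x) :
    ∃ y : T ⟶ K, y ≫ i = x := by
  choose U hU y hy using h
  have hcov : iSup U = ⊤ := top_le_iff.mp fun t _ => TopologicalSpace.Opens.mem_iSup.mpr ⟨t, hU t⟩
  let 𝒰 := T.left.openCoverOfIsOpenCover U hcov
  haveI : Mono i.left := inferInstance
  have hyl : ∀ t, (y t).left ≫ i.left = (U t).ι ≫ x.left := fun t =>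
    congrArg CommaMorphism.left (hy t)
  let g : T.left ⟶ K.left := 𝒰.glueMorphisms (fun t => (y t).left) (fun a b => by
    rw [← cancel_mono i.left]
    show (pullback.fst (U a).ι (U b).ι ≫ (y a).left) ≫ i.left = (pullback.snd (U a).ι (U b).ι ≫ (y b).left) ≫ i.left
    rw [Category.assoc, Category.assoc, hyl, hyl, pullback.condition_assoc])
  have hg : g ≫ i.left = x.left := by
    refine 𝒰.hom_ext _ _ fun t => ?_
    refine (Category.assoc _ _ _).symm.trans ?_
    refine (congrArg (· ≫ i.left) (Scheme.Cover.ι_glueMorphisms 𝒰 _ _ t)).trans ?_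
    exact hyl t
  exact ⟨Over.homMk g (by rw [← Over.w i, ← Category.assoc, hg, Over.w x]), Over.OverMorphism.ext hg⟩

theorem factors_KL_iff_locally_exists_thetaPt (hL : PicF.IsInvertible L) {K : Over (Spec (CommRingCat.of k))}
    {i : K ⟶ A} (hK : ThetaGrp.IsKL A L i) (x : T ⟶ A) :
    (∃ y : T ⟶ K, y ≫ i = x) ↔
      ∀ t : ↥T.left, ∃ U : T.left.Opens, t ∈ U ∧
        ∃ β : ThetaGrp.thetaPts A L (openOver U), ThetaGrp.IsOverPt β (openIncl U ≫ x) := by
  constructor
  · intro hy t
    obtain ⟨M, hM, hx⟩ := (factors_iff hL hK x).mp hy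
    obtain ⟨U, hU, ⟨e⟩⟩ := hM t
    refine ⟨U, hU, (isTw_structure_iff (openIncl U ≫ x)).mp ?_⟩
    exact isTw_of_iso (((Scheme.Modules.restrictFunctorIsoPullback U.ι).app M).symm ≪≫ e) (isTw_comp hL (openIncl U) hM hx)
  · intro h
    refine factors_of_locally hK.closed x fun t => ?_
    obtain ⟨U, hU, hβ⟩ := h t
    exact ⟨U, hU, (factors_iff hL hK _).mpr ⟨_, EGA73.isInvertible_structureModule, (isTw_structure_iff _).mpr hβ⟩⟩

end Groth.Agent.Theta99
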