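import Groth.Agent.Theta99.KL
import Groth.Agent.Theta99.Subgrp
import Groth.Prelude.Def_ThetaGrp
import Mathlib.CategoryTheory.FiberedCategory.Grothendieck

/-!
Points of the theta group as isomorphisms of translates.
-/

set_option autoImplicit false
set_option linter.style.haveILetI false

noncomputable section

universe u

open CategoryTheory CategoryTheory.Limits MonoidalCategory CartesianMonoidalCategory MonObj AlgebraicGeometry
open Pseudofunctor Bicategory

namespace Groth.Agent.Theta99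

section General

universe v₁ u₁ v₂ u₂

variable {𝒮 : Type u₁} [Category.{v₁} 𝒮] {F : LocallyDiscrete 𝒮ᵒᵖ ⥤ᵖ Cat.{v₂, u₂}}

set_option backward.isDefEq.respectTransparency false in
theorem faithful_ι (S : 𝒮) : (CoGrothendieck.ι F S).Faithful where
  map_injective {a b} := by
    intro f g heq
    simpa [cancel_mono, ← Cat.Hom.toNatIso_hom,
      ← Cat.Hom.toNatIso_inv] using ((CoGrothendieck.Hom.ext_iff _ _).mp heq).2

set_option backward.isDefEq.respectTransparency false in
theorem exists_map_eq {S : 𝒮} {a b : F.obj ⟨Opposite.op S⟩}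
    (w : (CoGrothendieck.ι F S).obj a ⟶ (CoGrothendieck.ι F S).obj b) (hw : w.base = 𝟙 S) :
    ∃ f : a ⟶ b, (CoGrothendieck.ι F S).map f = w := by
  refine ⟨w.fiber ≫ eqToHom (by simp [hw]; rfl) ≫ (F.mapId ⟨Opposite.op S⟩).hom.toNatTrans.app b, ?_⟩
  refine CoGrothendieck.Hom.ext _ _ hw.symm ?_
  simp [← Cat.Hom₂.comp_app]

variable {R S : 𝒮} {a : F.obj ⟨Opposite.op R⟩} {b : F.obj ⟨Opposite.op S⟩}

theorem isIso_cartesianLift (t : R ⟶ S) [IsIso t] : IsIso (CoGrothendieck.cartesianLift b t) := by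
  haveI := CoGrothendieck.isStronglyCartesian_homCartesianLift (R := R) b t
  exact Functor.IsStronglyCartesian.isIso_of_base_isIso (CoGrothendieck.forget F) t (CoGrothendieck.cartesianLift b t)

theorem exists_iso_hom (t : R ⟶ S) [IsIso t] (e : a ≅ (F.map t.op.toLoc).toFunctor.obj b) :
    ∃ φ : (⟨R, a⟩ : CoGrothendieck F) ≅ ⟨S, b⟩, φ.hom.base = t := by
  haveI := isIso_cartesianLift (b := b) t
  let c := asIso (CoGrothendieck.cartesianLift b t)
  refine ⟨(CoGrothendieck.ι F R).mapIso e ≪≫ c, ?_⟩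
  show 𝟙 R ≫ t = t
  exact Category.id_comp t

theorem nonempty_iso_of_hom (t : R ⟶ S) [IsIso t] (φ : (⟨R, a⟩ : CoGrothendieck F) ≅ ⟨S, b⟩)
    (hφ : φ.hom.base = t) : Nonempty (a ≅ (F.map t.op.toLoc).toFunctor.obj b) := by
  haveI := isIso_cartesianLift (b := b) t
  haveI := faithful_ι (F := F) R
  let c := asIso (CoGrothendieck.cartesianLift b t)
  let w := φ ≪≫ c.symm
  have hc : c.inv.base = inv t := by
    have := congrArg CoGrothendieck.Hom.base c.inv_hom_id
    exact IsIso.eq_inv_of_inv_hom_id this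
  have hw : w.hom.base = 𝟙 R := by
    show φ.hom.base ≫ c.inv.base = _
    rw [hφ, hc, IsIso.hom_inv_id]
  have hw' : w.inv.base = 𝟙 R := by
    have := congrArg CoGrothendieck.Hom.base w.inv_hom_id
    rw [CoGrothendieck.categoryStruct_comp_base, hw] at this
    simpa using this
  obtain ⟨f, hf⟩ := exists_map_eq (a := a) (b := (F.map t.op.toLoc).toFunctor.obj b) w.hom hw
  obtain ⟨g, hg⟩ := exists_map_eq (a := (F.map t.op.toLoc).toFunctor.obj b) (b := a) w.inv hw'
  refine ⟨⟨f, g, ?_, ?_⟩⟩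
  · apply (CoGrothendieck.ι F R).map_injective
    refine ((CoGrothendieck.ι F R).map_comp f g).trans ?_
    rw [hf, hg]
    exact w.hom_inv_id.trans ((CoGrothendieck.ι F R).map_id a).symm
  · apply (CoGrothendieck.ι F R).map_injective
    refine ((CoGrothendieck.ι F R).map_comp g f).trans ?_
    rw [hf, hg]
    exact w.inv_hom_id.trans ((CoGrothendieck.ι F R).map_id _).symm

end General

variable {k : Type u} [Field k] {A T : Over (Spec (CommRingCat.of k))} [GrpObj A] {L : A.left.Modules}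

theorem isIso_transl (x : T ⟶ A) : IsIso (ThetaGrp.transl A x).left := by
  have h₁ : ThetaGrp.transl A x ≫ ThetaGrp.transl A x⁻¹ = 𝟙 _ := by
    rw [← ThetaGrp.transl_mul, mul_inv_cancel, ThetaGrp.transl_one]
  have h₂ : ThetaGrp.transl A x⁻¹ ≫ ThetaGrp.transl A x = 𝟙 _ := by
    rw [← ThetaGrp.transl_mul, inv_mul_cancel, ThetaGrp.transl_one]
  exact ⟨(ThetaGrp.transl A x⁻¹).left, congrArg CommaMorphism.left h₁, congrArg CommaMorphism.left h₂⟩

/-- A point of the theta group over `x` is the same as an isomorphism with the translate. -/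
theorem exists_thetaPt_iff (x : T ⟶ A) :
    (∃ β : ThetaGrp.thetaPts A L T, ThetaGrp.IsOverPt β x) ↔
      Nonempty ((Scheme.Modules.pullback (fst A T).left).obj L ≅
        (Scheme.Modules.pullback (ThetaGrp.transl A x ≫ fst A T).left).obj L) := by
  haveI := isIso_transl x
  constructor
  · rintro ⟨β, hβ⟩
    obtain ⟨e⟩ := nonempty_iso_of_hom (F := ThetaGrp.modPF.{u}) (ThetaGrp.transl A x).left β.1 hβ
    let e' : (Scheme.Modules.pullback (fst A T).left).obj L ≅ (Scheme.Modules.pullback (ThetaGrp.transl A x).left).obj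
        ((Scheme.Modules.pullback (fst A T).left).obj L) := e
    exact ⟨e' ≪≫ pullCompIso _ _ L⟩
  · rintro ⟨e⟩
    let e' : (Scheme.Modules.pullback (fst A T).left).obj L ≅ (Scheme.Modules.pullback (ThetaGrp.transl A x).left).obj
        ((Scheme.Modules.pullback (fst A T).left).obj L) := e ≪≫ (pullCompIso _ _ L).symm
    obtain ⟨φ, hφ⟩ := exists_iso_hom (F := ThetaGrp.modPF.{u}) (R := (A ⊗ T).left) (S := (A ⊗ T).left)
      (a := (Scheme.Modules.pullback (fst A T).left).obj L) (b := (Scheme.Modules.pullback (fst A T).left).obj L)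
      (ThetaGrp.transl A x).left e'
    exact ⟨⟨φ, x, hφ⟩, hφ⟩

theorem isTw_structure_iff (x : T ⟶ A) :
    IsTw L x (Coh.structureModule T.left) ↔ ∃ β : ThetaGrp.thetaPts A L T, ThetaGrp.IsOverPt β x := by
  rw [exists_thetaPt_iff]
  exact ⟨fun ⟨e⟩ => ⟨(EGA73.tensIso (Iso.refl _) (PicLoc.pullbackStructureIso _) ≪≫ EGA73.tensComm _ _ ≪≫
      EGA73.tensUnitLeft _).symm ≪≫ e⟩,
    fun ⟨e⟩ => ⟨EGA73.tensIso (Iso.refl _) (PicLoc.pullbackStructureIso _) ≪≫ EGA73.tensComm _ _ ≪≫
      EGA73.tensUnitLeft _ ≪≫ e⟩⟩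

end Groth.Agent.Theta99
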